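import Groth.Agent.SpecVan.Cons
import Groth.Agent.SiteBase.Kill

/-! vanishing of cohomology on spectral spaces above the dimension -/

set_option autoImplicit false
set_option linter.style.haveILetI false
set_option backward.isDefEq.respectTransparency false
set_option backward.isDefEq.respectTransparency.types false

universe u

open CategoryTheory CategoryTheory.Limits Opposite TopologicalSpace CategoryTheory.Abelian

noncomputable section

namespace Groth.Agent.SpecVan

open Groth.Agent.SiteBase Groth.Agent.VanishGroth7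

variable {X : TopCat.{u}}

/-- the codimension of a point -/
def codimPt (x : X) : ℕ∞ :=
  Order.coheight (⟨closure {x}, isIrreducible_singleton.closure, isClosed_closure⟩ : IrreducibleCloseds X)

theorem codimPt_le {d : ℕ} (hd : topologicalKrullDim X ≤ d) (x : X) : codimPt x ≤ d := by
  have h : ((codimPt x : ℕ∞) : WithBot ℕ∞) ≤ ((d : ℕ∞) : WithBot ℕ∞) := (Order.coheight_le_krullDim _).trans hd
  exact WithBot.coe_le_coe.1 h

theorem codimPt_add_one_le [T0Space X] {x y : X} (h : y ⤳ x) (hne : y ≠ x) : codimPt y + 1 ≤ codimPt x := by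
  refine Order.coheight_add_one_le (lt_of_le_of_ne ?_ ?_)
  · intro z hz
    exact closure_minimal (Set.singleton_subset_iff.2 (specializes_iff_mem_closure.1 h)) isClosed_closure hz
  · intro e
    have e' : closure {x} = closure {y} := congrArg (fun C : IrreducibleCloseds X => (C : Set X)) e
    exact hne (h.antisymm (specializes_iff_closure_subset.2 e'.ge)).eq

variable [SpectralSpace X]

/-- the unit to the direct image from the constructible topology -/
def cunit (F : CohTop.Ab X) : F ⟶ (CohTop.push (cmap X)).obj ((CohTop.pull (cmap X)).obj F) :=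
  (TopCat.Sheaf.pullbackPushforwardAdjunction AddCommGrpCat.{u} (cmap X)).unit.app F

theorem cunit_app (F : CohTop.Ab X) (U : Opens X) (s : F.obj.obj (op U)) :
    (cunit F).hom.app (op U) s = (SoftTop.pullData (cmap X) F).η.app (op U) s := rfl

theorem cmap_surjective (x : X) : ∃ z : Xc X, cmap X z = x :=
  ⟨WithTopology.toTopology _ x, rfl⟩

instance mono_cunit (F : CohTop.Ab X) : Mono (cunit F) := by
  let D := SoftTop.pullData (cmap X) F
  haveI : ∀ (U : Opens X), Mono ((cunit F).hom.app (op U)) := fun U => by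
    refine (AddCommGrpCat.mono_iff_injective _).2 fun s s' h => ?_
    refine TopCat.Presheaf.section_ext F U s s' fun x hx => ?_
    obtain ⟨z, rfl⟩ := cmap_surjective x
    exact D.germ_eq z hx hx s s' (congrArg
      (fun a => (TopCat.Presheaf.germ ((CohTop.pull (cmap X)).obj F).obj ((Opens.map (cmap X)).obj U) z hx) a) h)
  haveI : ∀ U, Mono ((cunit F).hom.app U) := fun U => this U.unop
  haveI : Mono (cunit F).hom := NatTrans.mono_of_mono_app _
  exact (sheafToPresheaf _ _).mono_of_mono_map (inferInstanceAs (Mono (cunit F).hom))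

/-- the unit is surjective on stalks at points whose generalizations carry no stalk -/
theorem cunit_stalk_surjective (F : CohTop.Ab X) (x : X)
    (h : ∀ y : X, y ⤳ x → y ≠ x → IsZero ((stalkF y).obj F)) :
    Function.Surjective ((stalkF x).map (cunit F)) := by
  intro w
  let D := SoftTop.pullData (cmap X) F
  let H := (CohTop.pull (cmap X)).obj F
  obtain ⟨U, hxU, t, rfl⟩ := exists_germ _ x w
  obtain ⟨z₀, rfl⟩ := cmap_surjective x
  obtain ⟨U₁, hU₁, s, hs⟩ := D.exists_germ (t : H.obj.obj (op ((Opens.map (cmap X)).obj U))) z₀ hxU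
  let T : Opens (Xc X) := (Opens.map (cmap X)).obj U ⊓ (Opens.map (cmap X)).obj U₁
  let E : Set (Xc X) := {z | ∃ hz : z ∈ T,
    TopCat.Presheaf.germ H.obj ((Opens.map (cmap X)).obj U) z hz.1 t =
      TopCat.Presheaf.germ H.obj ((Opens.map (cmap X)).obj U₁) z hz.2 (D.η.app (op U₁) s)}
  have hEopen : IsOpen E := isOpen_iff_forall_mem_open.2 fun z ⟨hz, e⟩ => by
    obtain ⟨W, hzW, i₁, i₂, hW⟩ := TopCat.Presheaf.germ_eq (C := AddCommGrpCat.{u}) (X := Xc X) H.obj z hz.1 hz.2 _ _ e
    refine ⟨W, fun z' hz' => ⟨⟨leOfHom i₁ hz', leOfHom i₂ hz'⟩, ?_⟩, W.isOpen, hzW⟩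
    rw [← TopCat.Presheaf.germ_res_apply H.obj i₁ z' hz' t, hW, TopCat.Presheaf.germ_res_apply]
  have hgen : ∀ z : Xc X, cmap X z ⤳ cmap X z₀ → z ∈ E := by
    intro z hz
    by_cases e : z = z₀
    · subst e
      exact ⟨⟨hxU, hU₁⟩, hs.symm⟩
    refine ⟨⟨hz.mem_open U.isOpen hxU, hz.mem_open U₁.isOpen hU₁⟩, ?_⟩
    have hne : cmap X z ≠ cmap X z₀ := fun e' => e (by
      have := congrArg (WithTopology.toTopology (constructibleTopology X)) e'
      simpa [cmap] using this)
    haveI : Subsingleton (TopCat.Presheaf.stalk (C := AddCommGrpCat.{u}) (X := Xc X) H.obj z) :=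
      @Equiv.subsingleton _ _ (Equiv.ofBijective _ (D.bij z)).symm (AddCommGrpCat.subsingleton_of_isZero (h _ hz hne))
    exact Subsingleton.elim _ _
  let ι := {V : Opens X // cmap X z₀ ∈ V ∧ IsCompact (V : Set X)}
  haveI : Nonempty ι := ⟨⟨⊤, trivial, isCompact_univ⟩⟩
  obtain ⟨⟨V, hxV, hVc⟩, hV⟩ := hEopen.isClosed_compl.isCompact.elim_directed_family_closed
    (fun V : ι => (((Opens.map (cmap X)).obj V.1 : Opens (Xc X)) : Set (Xc X)))
    (fun V => isClosed_map_cmap V.2.2)
    (by
      refine Set.eq_empty_of_forall_notMem fun z ⟨hz, hz'⟩ => hz (hgen z ?_)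
      refine specializes_iff_forall_open.2 fun O hO hxO => ?_
      obtain ⟨V, ⟨hVo, hVc⟩, hxV, hVO⟩ := PrespectralSpace.isTopologicalBasis.exists_subset_of_mem_open hxO hO
      exact hVO (Set.mem_iInter.1 hz' ⟨⟨V, hVo⟩, hxV, hVc⟩))
    (fun V V' => ⟨⟨V.1 ⊓ V'.1, ⟨V.2.1, V'.2.1⟩,
      QuasiSeparatedSpace.inter_isCompact _ _ V.1.isOpen V.2.2 V'.1.isOpen V'.2.2⟩,
      fun z hz => hz.1, fun z hz => hz.2⟩)
  let V' : Opens X := V ⊓ U ⊓ U₁
  have hxV' : cmap X z₀ ∈ V' := ⟨⟨hxV, hxU⟩, hU₁⟩
  refine ⟨germ F hxV' (F.obj.map (homOfLE (inf_le_right : V' ≤ U₁)).op s), ?_⟩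
  refine (stalkF_map_germ _ _ _).trans (Eq.trans ?_
    (germ_res ((CohTop.push (cmap X)).obj H) (inf_le_left.trans inf_le_right : V' ≤ U) hxV' t))
  refine congrArg (germ ((CohTop.push (cmap X)).obj H) hxV') ?_
  refine TopCat.Presheaf.section_ext H ((Opens.map (cmap X)).obj V') _ _ fun z hz => ?_
  obtain ⟨_, e⟩ : z ∈ E := by_contra fun hn => Set.eq_empty_iff_forall_notMem.1 hV z ⟨hn, hz.1.1⟩
  refine (congrArg (TopCat.Presheaf.germ H.obj _ z hz)
    (NatTrans.naturality_apply (cunit F).hom (homOfLE (inf_le_right : V' ≤ U₁)).op s)).trans ?_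
  refine (TopCat.Presheaf.germ_res_apply H.obj _ z hz _).trans (e.symm.trans ?_)
  exact (TopCat.Presheaf.germ_res_apply H.obj _ z hz t).symm

/-- the short exact sequence of the unit -/
def cSeq (F : CohTop.Ab X) : ShortComplex (CohTop.Ab X) :=
  ShortComplex.mk (cunit F) (cokernel.π (cunit F)) (cokernel.condition _)

instance (F : CohTop.Ab X) : Epi (cSeq F).g := inferInstanceAs (Epi (cokernel.π (cunit F)))

theorem cSeq_shortExact (F : CohTop.Ab X) : (cSeq F).ShortExact :=
  { exact := ShortComplex.exact_of_g_is_cokernel _ (cokernelIsCokernel _)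
    mono_f := mono_cunit F }

/-- the cokernel loses one more codimension -/
theorem isZero_stalk_cokernel (F : CohTop.Ab X) (k : ℕ)
    (hF : ∀ x : X, codimPt x < k → IsZero ((stalkF x).obj F)) (x : X) (hx : codimPt x < (k + 1 : ℕ)) :
    IsZero ((stalkF x).obj (cSeq F).X₃) := by
  haveI : Subsingleton ((stalkF x).obj (cSeq F).X₃) := subsingleton_of_forall_eq 0 fun w => by
    obtain ⟨v, rfl⟩ := stalk_surjective (cokernel.π (cunit F)) x w
    obtain ⟨a, rfl⟩ := cunit_stalk_surjective F x (fun y hy hne => hF y (by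
      have h1 := codimPt_add_one_le hy hne
      have h2 : codimPt x ≤ k := Order.le_of_lt_add_one (by exact_mod_cast hx)
      refine (ENat.add_one_le_iff ?_).1 (h1.trans h2)
      exact ne_top_of_le_ne_top (ENat.natCast_ne_top k) ((le_self_add).trans (h1.trans h2)))) v
    exact map_comp_eq_zero (cunit F) (cokernel.π (cunit F)) (cokernel.condition _) a
  exact AddCommGrpCat.isZero_of_subsingleton _

theorem res_comp_extClass {S : ShortComplex (CohTop.Ab X)} (hS : S.ShortExact) {U V : Opens X} (h : V ≤ U) (n : ℕ)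
    (y : CohTop.HU S.X₃ n U) :
    (CohTop.res S.X₁ (n + 1) h (Ext.comp (X := CohCx.freeSheaf (J X) U) y hS.extClass rfl) :
        Ext (CohCx.freeSheaf (J X) V) S.X₁ (n + 1)) =
      Ext.comp (X := CohCx.freeSheaf (J X) V) (CohTop.res S.X₃ n h y) hS.extClass rfl :=
  (Ext.comp_assoc (Ext.mk₀ (CohCx.freeSheafMap (J X) (homOfLE h))) (y : Ext (CohCx.freeSheaf (J X) U) S.X₃ n)
    hS.extClass (zero_add n) rfl (by omega)).symm

/-- vanishing and surjectivity, by descending induction on the first relevant codimension -/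
theorem van_of_codim {d : ℕ} (hd : topologicalKrullDim X ≤ d) : ∀ (m k : ℕ), k + m = d + 1 →
    ∀ F : CohTop.Ab X, (∀ x : X, codimPt x < k → IsZero ((stalkF x).obj F)) →
      (∀ U : Opens X, IsCompact (U : Set X) → ∀ p : ℕ, m ≤ p → Subsingleton (CohTop.HU F p U)) ∧
        (∀ (j : ℕ), m = j + 1 → ∀ U : Opens X, IsCompact (U : Set X) →
          Function.Surjective (CohTop.res F j (le_top : U ≤ ⊤))) := by
  intro m
  induction m with
  | zero =>
    intro k hk F hF
    have h0 : IsZero F := isZero_of_stalks F fun x => hF x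
      (lt_of_le_of_lt (codimPt_le hd x) (by exact_mod_cast (by omega : d < k)))
    refine ⟨fun U _ p _ => subsingleton_of_forall_eq 0 fun (ξ : Ext (CohCx.freeSheaf (J X) U) F p) => ?_,
      fun j hj => absurd hj (by omega)⟩
    rw [← Ext.comp_mk₀_id ξ, show 𝟙 F = 0 from h0.eq_of_src _ _, Ext.mk₀_zero, Ext.comp_zero]
  | succ m ih =>
    intro k hk F hF
    let G := (CohTop.pull (cmap X)).obj F
    obtain ⟨ihv, ihs⟩ := ih (k + 1) (by omega) (cSeq F).X₃ (isZero_stalk_cokernel F k hF)
    have hS := cSeq_shortExact F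
    have hmid : ∀ (U : Opens X), IsCompact (U : Set X) → ∀ n, Subsingleton (CohTop.HU (cSeq F).X₂ (n + 1) U) :=
      fun U hU n => subsingleton_HU_push n G U hU
    refine ⟨fun U hU p hp => ?_, fun j hj U hU => ?_⟩
    · obtain ⟨i, rfl⟩ : ∃ i, p = i + 1 := ⟨p - 1, by omega⟩
      refine subsingleton_of_forall_eq 0 fun (ξ : Ext (CohCx.freeSheaf (J X) U) F (i + 1)) => ?_
      obtain ⟨y, hy⟩ := Ext.covariant_sequence_exact₁ (CohCx.freeSheaf (J X) U) hS ξ
        ((hmid U hU i).elim _ _) (n₀ := i) rfl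
      refine hy.symm.trans ?_
      rw [show y = 0 from (ihv U hU i (by omega)).elim _ _, Ext.zero_comp]
    · intro ξ
      obtain rfl : m = j := by omega
      cases m with
      | zero =>
        have hC0 : IsZero (cSeq F).X₃ := isZero_of_stalks _ fun x => by
          refine isZero_stalk_cokernel F k hF x ?_
          exact lt_of_le_of_lt (codimPt_le hd x) (by exact_mod_cast (by omega : d < k + 1))
        haveI : Epi (cunit F) := (hS.exact.epi_f_iff).2 (hC0.eq_of_tgt _ _)
        haveI : IsIso (cunit F) := isIso_of_mono_of_epi _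
        obtain ⟨φ, rfl⟩ := (Ext.mk₀_bijective (CohCx.freeSheaf (J X) U) F).2 ξ
        obtain ⟨t, ht⟩ := sections_push_surjective G hU (secEquiv (J X) U _ (φ ≫ cunit F))
        refine ⟨(Ext.mk₀ ((secEquiv (J X) (⊤ : Opens X) _).symm t ≫ inv (cunit F)) :
          Ext (CohCx.freeSheaf (J X) ⊤) F 0), ?_⟩
        refine (res_eq_comp F 0 (homOfLE (le_top : U ≤ ⊤)) _).trans ?_
        rw [Ext.mk₀_comp_mk₀]
        refine congrArg Ext.mk₀ ?_
        rw [← Category.assoc, IsIso.comp_inv_eq]
        apply (secEquiv (J X) U _).injective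
        rw [secEquiv_freeSheafMap, AddEquiv.apply_symm_apply]
        exact ht
      | succ i =>
        obtain ⟨y, hy⟩ := Ext.covariant_sequence_exact₁ (CohCx.freeSheaf (J X) U) hS
          (ξ : Ext (CohCx.freeSheaf (J X) U) F (i + 1)) ((hmid U hU i).elim _ _) (n₀ := i) rfl
        obtain ⟨y', hy'⟩ := ihs i rfl U hU y
        refine ⟨Ext.comp (X := CohCx.freeSheaf (J X) ⊤) y' hS.extClass rfl, ?_⟩
        refine (res_comp_extClass hS _ i y').trans ?_
        rw [hy']
        exact hy

/-- vanishing above the dimension -/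
theorem subsingleton_H {d : ℕ} (hd : topologicalKrullDim X ≤ d) (F : CohTop.Ab X) (p : ℕ) (hp : d < p) :
    Subsingleton (CohTop.H F p) := by
  have h := (van_of_codim hd (d + 1) 0 (by omega) F fun x hx => absurd hx (by simp)).1 ⊤
    (isCompact_univ) p hp
  exact (SiteBase.huTerminalEquiv (J := J X) isTerminalTop F p).symm.toEquiv.subsingleton_congr.2 h

/-- surjectivity in top degree -/
theorem res_surjective {d : ℕ} (hd : topologicalKrullDim X ≤ d) (F : CohTop.Ab X) (U : Opens X)
    (hU : IsCompact (U : Set X)) : Function.Surjective (CohTop.res F d (le_top : U ≤ ⊤)) :=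
  (van_of_codim hd (d + 1) 0 (by omega) F fun x hx => absurd hx (by simp)).2 d rfl U hU

end Groth.Agent.SpecVan
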