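import Groth.Agent.VanishGroth7.Noetherian
import Groth.Agent.SoftTop.PullData
import Groth.Agent.S0471
import Groth.Agent.S0463
import Mathlib.Topology.Spectral.Basic
import Mathlib.Topology.Spectral.ConstructibleTopology
import Mathlib.Topology.Separation.Connected

/-! the constructible topology of a spectral space and direct images from it -/

set_option autoImplicit false
set_option linter.style.haveILetI false
set_option backward.isDefEq.respectTransparency false
set_option backward.isDefEq.respectTransparency.types false

universe u

open CategoryTheory CategoryTheory.Limits Opposite TopologicalSpace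

noncomputable section

namespace Groth.Agent.SpecVan

open Groth.Agent.SiteBase Groth.Agent.VanishGroth7

variable (X : TopCat.{u})

/-- the space with the constructible topology -/
abbrev Xc : TopCat.{u} := TopCat.of (WithConstructibleTopology X)

variable {X} [SpectralSpace X]

theorem isClopen_preimage {U : Set X} (hU : IsOpen U) (hc : IsCompact U) :
    IsClopen (WithTopology.ofTopology ⁻¹' U : Set (WithConstructibleTopology X)) := by
  constructor
  · rw [← isOpen_compl_iff, WithConstructibleTopology.isOpen_iff]
    exact IsCompact.isOpen_constructibleTopology_of_isClosed (s := Uᶜ) (by rwa [compl_compl]) hU.isClosed_compl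
  · rw [WithConstructibleTopology.isOpen_iff]
    exact hc.isOpen_constructibleTopology_of_isOpen hU

theorem continuous_ofTopology :
    Continuous (WithTopology.ofTopology : WithConstructibleTopology X → X) := by
  refine (PrespectralSpace.isTopologicalBasis (X := X)).continuous_iff.2 fun U hU => ?_
  exact (isClopen_preimage hU.1 hU.2).isOpen

instance totallySeparatedSpace_cons : TotallySeparatedSpace (WithConstructibleTopology X) := by
  refine totallySeparatedSpace_iff_exists_isClopen.2 fun a b hab => ?_
  have hne : WithTopology.ofTopology a ≠ WithTopology.ofTopology b := fun h =>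
    hab (by simpa using congrArg (WithTopology.toTopology (constructibleTopology X)) h)
  obtain ⟨W, hW, h | h⟩ := exists_isOpen_xor_mem hne
  · obtain ⟨V, ⟨hV, hVc⟩, haV, hVW⟩ := PrespectralSpace.isTopologicalBasis.exists_subset_of_mem_open h.1 hW
    exact ⟨_, isClopen_preimage hV hVc, haV, fun hb => h.2 (hVW hb)⟩
  · obtain ⟨V, ⟨hV, hVc⟩, hbV, hVW⟩ := PrespectralSpace.isTopologicalBasis.exists_subset_of_mem_open h.1 hW
    exact ⟨_, (isClopen_preimage hV hVc).compl, fun ha => h.2 (hVW ha), fun hb => hb hbV⟩

instance : CompactSpace (Xc X) := inferInstanceAs (CompactSpace (WithConstructibleTopology X))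

instance : TotallySeparatedSpace (Xc X) := totallySeparatedSpace_cons

variable (X)

/-- the continuous map to the original space -/
def cmap : Xc X ⟶ X := TopCat.ofHom ⟨WithTopology.ofTopology, continuous_ofTopology⟩

variable {X}

instance : (CohTop.push (cmap X)).PreservesZeroMorphisms where
  map_zero _ _ := rfl

/-- cohomology over clopens of a profinite space vanishes -/
theorem subsingleton_HU_clopen (G : CohTop.Ab (Xc X)) (W : Opens (Xc X)) (hW : IsClosed (W : Set (Xc X)))
    (n : ℕ) : Subsingleton (CohTop.HU G (n + 1) W) := by
  obtain ⟨e⟩ := Groth.Agent.S0463.result G W (n + 1)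
  haveI : CompactSpace (TopCat.of ↥W : TopCat.{u}) := isCompact_iff_compactSpace.mp hW.isCompact
  haveI := Groth.Agent.S0471.result (X := TopCat.of ↥W) (CohTop.restr G W) n
  exact e.toEquiv.subsingleton

/-- the clopen inverse image of a compact open -/
theorem isClosed_map_cmap {U : Opens X} (hU : IsCompact (U : Set X)) :
    IsClosed (((Opens.map (cmap X)).obj U : Opens (Xc X)) : Set (Xc X)) :=
  (isClopen_preimage U.isOpen hU).isClosed

theorem surjective_clopen {S : ShortComplex (CohTop.Ab (Xc X))} (hS : S.ShortExact) (W : Opens (Xc X))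
    (hW : IsClosed (W : Set (Xc X))) : Function.Surjective (S.g.hom.app (op W)).hom :=
  surjective_sections_of_HU_one hS W (subsingleton_HU_clopen S.X₁ W hW 0)

/-- the direct image from the constructible topology is exact -/
theorem shortExact_push {S : ShortComplex (CohTop.Ab (Xc X))} (hS : S.ShortExact) :
    (S.map (CohTop.push (cmap X))).ShortExact := by
  haveI : (CohTop.push (cmap X)).IsRightAdjoint :=
    (TopCat.Sheaf.pullbackPushforwardAdjunction AddCommGrpCat.{u} (cmap X)).isRightAdjoint
  haveI : PreservesFiniteLimits (CohTop.push (cmap X)) := inferInstance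
  haveI := hS.mono_f
  refine { exact := ShortComplex.exact_of_f_is_kernel _ (KernelFork.mapIsLimit _ hS.fIsKernel (CohTop.push (cmap X)))
           mono_f := inferInstanceAs (Mono ((CohTop.push (cmap X)).map S.f))
           epi_g := ?_ }
  refine epi_of_stalk _ fun x z => ?_
  obtain ⟨U, hxU, s, rfl⟩ := exists_germ _ x z
  obtain ⟨V, ⟨hV, hVc⟩, hxV, hVU⟩ :=
    PrespectralSpace.isTopologicalBasis.exists_subset_of_mem_open hxU U.isOpen
  let V' : Opens X := ⟨V, hV⟩
  obtain ⟨t, ht⟩ := surjective_clopen hS ((Opens.map (cmap X)).obj V') (isClosed_map_cmap hVc)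
    (((CohTop.push (cmap X)).obj S.X₃).obj.map (homOfLE (show V' ≤ U from hVU)).op s)
  refine ⟨germ ((CohTop.push (cmap X)).obj S.X₂) (show x ∈ V' from hxV) t, ?_⟩
  refine (stalkF_map_germ _ _ _).trans ?_
  exact (congrArg (germ ((CohTop.push (cmap X)).obj S.X₃) (show x ∈ V' from hxV)) ht).trans
    (germ_res ((CohTop.push (cmap X)).obj S.X₃) hVU _ _)

/-- direct images from the constructible topology have no higher cohomology over compact opens -/
theorem subsingleton_HU_push : ∀ (n : ℕ) (G : CohTop.Ab (Xc X)) (U : Opens X), IsCompact (U : Set X) →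
    Subsingleton (CohTop.HU ((CohTop.push (cmap X)).obj G) (n + 1) U) := by
  intro n
  induction n with
  | zero =>
    intro G U hU
    have hS := injectiveSES_shortExact G
    haveI : Injective ((injectiveSES G).map (CohTop.push (cmap X))).X₂ :=
      injective_push (cmap X) (injectiveSES G).X₂
    exact subsingleton_HU_one_X₁ (shortExact_push hS) U inferInstance
      (surjective_clopen hS ((Opens.map (cmap X)).obj U) (isClosed_map_cmap hU))
  | succ n ih =>
    intro G U hU
    have hS := injectiveSES_shortExact G
    haveI : Injective ((injectiveSES G).map (CohTop.push (cmap X))).X₂ :=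
      injective_push (cmap X) (injectiveSES G).X₂
    exact subsingleton_HU_X₁_succ (shortExact_push hS) U n inferInstance (ih (injectiveSES G).X₃ U hU)

/-- sections of direct images extend from compact opens -/
theorem sections_push_surjective (G : CohTop.Ab (Xc X)) {U : Opens X} (hU : IsCompact (U : Set X)) :
    Function.Surjective (((CohTop.push (cmap X)).obj G).obj.map (homOfLE (le_top : U ≤ ⊤)).op).hom := by
  intro s
  let A : Opens (Xc X) := (Opens.map (cmap X)).obj U
  let B : Opens (Xc X) := ⟨(A : Set (Xc X))ᶜ, (isClosed_map_cmap hU).isOpen_compl⟩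
  obtain ⟨S, hS, -⟩ := SoftTop.glue₂ G (s : G.obj.obj (op A)) (0 : G.obj.obj (op B)) (fun x h₁ h₂ => absurd h₁ h₂)
  let k : (Opens.map (cmap X)).obj (⊤ : Opens X) ⟶ A ⊔ B :=
    homOfLE fun x _ => (em (x ∈ A)).elim Or.inl Or.inr
  refine ⟨G.obj.map k.op S, ?_⟩
  refine TopCat.Presheaf.section_ext G A _ _ fun z hz => ?_
  show TopCat.Presheaf.germ G.obj A z hz (G.obj.map ((Opens.map (cmap X)).map (homOfLE (le_top : U ≤ ⊤))).op
    (G.obj.map k.op S)) = _
  rw [TopCat.Presheaf.germ_res_apply, TopCat.Presheaf.germ_res_apply]
  exact hS z hz

end Groth.Agent.SpecVan
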